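/-
Elementary abelian 2-subgroups of linear groups in odd characteristic.
-/
import Mathlib

set_option autoImplicit false
set_option linter.unusedSectionVars false
set_option linter.style.haveILetI false

namespace CfsgLib.LinearNormalRank

universe u

variable {F : Type*} [Field F]

/-- A faithful exponent two abelian group of operators on an `n`-space has order at most `2 ^ n`. -/
theorem card_le_two_pow (h2 : (2 : F) ≠ 0) : ∀ (n : ℕ) {V : Type u} [AddCommGroup V] [Module F V]
    [FiniteDimensional F V], Module.finrank F V = n → ∀ {E : Type u} [Group E] [Finite E]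
    (ρ : E →* (V ≃ₗ[F] V)), Function.Injective ρ → (∀ a b : E, a * b = b * a) → (∀ a : E, a * a = 1) →
    Nat.card E ≤ 2 ^ n := by
  intro n
  induction n using Nat.strong_induction_on with
  | _ n ih =>
  intro V _ _ _ hn E _ _ ρ hinj hcomm hsq
  have hρsq : ∀ a v, ρ a (ρ a v) = v := fun a v => by
    rw [← LinearEquiv.mul_apply, ← map_mul, hsq, map_one]
    rfl
  by_cases hall : ∀ a, (∀ v, ρ a v = v) ∨ ∀ v, ρ a v = -v
  · rcases Nat.eq_zero_or_pos n with h0 | hpos
    · subst h0
      haveI : Subsingleton V := Module.finrank_zero_iff.mp hn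
      haveI : Subsingleton E := ⟨fun a b => hinj (LinearEquiv.ext fun v => Subsingleton.elim _ _)⟩
      rw [Nat.card_of_subsingleton (1 : E)]
      simp
    · classical
      refine le_trans (Nat.card_le_card_of_injective (fun a => decide (∀ v, ρ a v = v)) fun a b h => ?_)
        (le_trans (by simp) (Nat.pow_le_pow_right two_pos hpos))
      simp only [decide_eq_decide] at h
      refine hinj (LinearEquiv.ext fun v => ?_)
      rcases hall a with ha | ha
      · rw [ha, h.mp ha]
      · rcases hall b with hb | hb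
        · rw [hb, h.mpr hb]
        · rw [ha, hb]
  · push Not at hall
    obtain ⟨e, ⟨v₁, hv₁⟩, v₂, hv₂⟩ := hall
    let Wp : Submodule F V := LinearMap.ker ((ρ e).toLinearMap - LinearMap.id)
    let Wm : Submodule F V := LinearMap.ker ((ρ e).toLinearMap + LinearMap.id)
    have hp : ∀ v, v ∈ Wp ↔ ρ e v = v := fun v => by simp [Wp, sub_eq_zero]
    have hm : ∀ v, v ∈ Wm ↔ ρ e v = -v := fun v => by simp [Wm, add_eq_zero_iff_eq_neg]
    have hc : IsCompl Wp Wm := by
      refine ⟨disjoint_iff.mpr ((Submodule.eq_bot_iff _).mpr fun v hv => ?_), ?_⟩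
      · have e2 := ((hp v).mp hv.1).symm.trans ((hm v).mp hv.2)
        have : (2 : F) • v = 0 := by rw [two_smul]; exact eq_neg_iff_add_eq_zero.mp e2
        exact (smul_eq_zero.mp this).resolve_left h2
      · rw [codisjoint_iff, Submodule.eq_top_iff']
        intro v
        refine Submodule.mem_sup.mpr ⟨(2 : F)⁻¹ • (v + ρ e v), (hp _).mpr ?_, (2 : F)⁻¹ • (v - ρ e v),
          (hm _).mpr ?_, ?_⟩
        · rw [map_smul, map_add, hρsq, add_comm]
        · rw [map_smul, map_sub, hρsq, ← smul_neg, neg_sub]
        · rw [← smul_add, add_add_sub_cancel, ← two_smul F v, smul_smul, inv_mul_cancel₀ h2, one_smul]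
    have hcm : ∀ a v, ρ e (ρ a v) = ρ a (ρ e v) := fun a v => by
      rw [← LinearEquiv.mul_apply, ← map_mul, hcomm, map_mul]
      rfl
    have hsum := Submodule.finrank_add_eq_of_isCompl hc
    have hp1 : 0 < Module.finrank F Wp := by
      by_contra h
      have hbot : Wp = ⊥ := Submodule.finrank_eq_zero.mp (by omega)
      have htop := hc.sup_eq_top
      rw [hbot, bot_sup_eq] at htop
      exact hv₂ ((hm v₂).mp (htop ▸ Submodule.mem_top))
    have hm1 : 0 < Module.finrank F Wm := by
      by_contra h
      have hbot : Wm = ⊥ := Submodule.finrank_eq_zero.mp (by omega)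
      have htop := hc.sup_eq_top
      rw [hbot, sup_bot_eq] at htop
      exact hv₁ ((hp v₁).mp (htop ▸ Submodule.mem_top))
    let res : ∀ (W : Submodule F V), (∀ a, ∀ v ∈ W, ρ a v ∈ W) → E →* (W ≃ₗ[F] W) := fun W hW =>
      { toFun := fun a => LinearEquiv.ofLinearMap ((ρ a).toLinearMap.restrict (hW a))
            ((ρ a).toLinearMap.restrict (hW a)) (LinearMap.ext fun v => Subtype.ext (hρsq a v))
            (LinearMap.ext fun v => Subtype.ext (hρsq a v))
        map_one' := LinearEquiv.ext fun v => Subtype.ext (by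
          show ρ 1 v.1 = v.1
          rw [map_one]; rfl)
        map_mul' := fun a b => LinearEquiv.ext fun v => Subtype.ext (by
          show ρ (a * b) v.1 = ρ a (ρ b v.1)
          rw [map_mul]; rfl) }
    have hWp : ∀ a, ∀ v ∈ Wp, ρ a v ∈ Wp := fun a v hv => (hp _).mpr (by rw [hcm, (hp v).mp hv])
    have hWm : ∀ a, ∀ v ∈ Wm, ρ a v ∈ Wm := fun a v hv => (hm _).mpr (by rw [hcm, (hm v).mp hv, map_neg])
    have key : ∀ (W : Submodule F V) (hW : ∀ a, ∀ v ∈ W, ρ a v ∈ W), Module.finrank F W < n →
        Nat.card (res W hW).range ≤ 2 ^ Module.finrank F W := fun W hW hlt =>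
      haveI : Finite (res W hW).range := Finite.of_surjective _ (res W hW).rangeRestrict_surjective
      ih _ hlt rfl (res W hW).range.subtype Subtype.val_injective
        (fun a b => Subtype.ext (by
          obtain ⟨_, x, rfl⟩ := a
          obtain ⟨_, y, rfl⟩ := b
          show res W hW x * res W hW y = res W hW y * res W hW x
          rw [← map_mul, ← map_mul, hcomm]))
        (fun a => Subtype.ext (by
          obtain ⟨_, x, rfl⟩ := a
          show res W hW x * res W hW x = 1
          rw [← map_mul, hsq, map_one]))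
    haveI : Finite (res Wp hWp).range := Finite.of_surjective _ (res Wp hWp).rangeRestrict_surjective
    haveI : Finite (res Wm hWm).range := Finite.of_surjective _ (res Wm hWm).rangeRestrict_surjective
    calc Nat.card E ≤ Nat.card ((res Wp hWp).range × (res Wm hWm).range) := by
          refine Nat.card_le_card_of_injective
            (fun a => (⟨res Wp hWp a, a, rfl⟩, ⟨res Wm hWm a, a, rfl⟩)) fun a b h => ?_
          have hf : res Wp hWp a = res Wp hWp b := congrArg Subtype.val (congrArg Prod.fst h)
          have hs : res Wm hWm a = res Wm hWm b := congrArg Subtype.val (congrArg Prod.snd h)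
          refine hinj (LinearEquiv.ext fun v => ?_)
          obtain ⟨x, hx, y, hy, rfl⟩ := Submodule.mem_sup.mp (hc.sup_eq_top ▸ Submodule.mem_top (x := v))
          rw [map_add, map_add, show ρ a x = ρ b x from congrArg Subtype.val (LinearEquiv.congr_fun hf ⟨x, hx⟩),
            show ρ a y = ρ b y from congrArg Subtype.val (LinearEquiv.congr_fun hs ⟨y, hy⟩)]
      _ ≤ 2 ^ Module.finrank F Wp * 2 ^ Module.finrank F Wm := by
          rw [Nat.card_prod]
          exact Nat.mul_le_mul (key Wp hWp (by omega)) (key Wm hWm (by omega))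
      _ = 2 ^ n := by rw [← pow_add, hsum, hn]

/-- In `GL₂` with nonsquare `-1`, an involution commuting with its conjugate by an element of order
eight is scalar. -/
theorem scalar_of_commute_conj (h2 : (2 : F) ≠ 0) (hns : ∀ x : F, x * x ≠ -1) (g a : GL (Fin 2) F)
    (hg : orderOf g = 8) (ha : a * a = 1) (hc : a * (g * a * g⁻¹) = g * a * g⁻¹ * a) :
    a = 1 ∨ a.1 = -1 := by
  have hg8 : g ^ 8 = 1 := hg ▸ pow_orderOf_eq_one g
  have hg4 : g ^ 4 ≠ 1 := fun e => by
    have := orderOf_dvd_of_pow_eq_one e
    rw [hg] at this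
    norm_num at this
  by_contra hcon
  push Not at hcon
  obtain ⟨h1, hm1⟩ := hcon
  have tr0 : ∀ c : GL (Fin 2) F, c * c = 1 → c ≠ 1 → c.1 ≠ -1 →
      c.1 1 1 = -c.1 0 0 ∧ c.1 0 0 * c.1 0 0 + c.1 0 1 * c.1 1 0 = 1 := by
    intro c hc hc1 hcm
    have e : c.1 * c.1 = 1 := by rw [← Units.val_mul, hc, Units.val_one]
    have e00 := congrFun (congrFun e 0) 0
    have e01 := congrFun (congrFun e 0) 1
    have e10 := congrFun (congrFun e 1) 0
    have e11 := congrFun (congrFun e 1) 1
    simp [Matrix.mul_apply, Fin.sum_univ_two] at e00 e01 e10 e11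
    refine ⟨?_, e00⟩
    by_contra ht
    have ht' : c.1 0 0 + c.1 1 1 ≠ 0 := fun h => ht (by linear_combination h)
    have z01 : c.1 0 1 = 0 := (mul_eq_zero.mp
      (show c.1 0 1 * (c.1 0 0 + c.1 1 1) = 0 by linear_combination e01)).resolve_right ht'
    have z10 : c.1 1 0 = 0 := (mul_eq_zero.mp
      (show c.1 1 0 * (c.1 0 0 + c.1 1 1) = 0 by linear_combination e10)).resolve_right ht'
    have zd : c.1 0 0 = c.1 1 1 := by
      rw [z01, z10] at e00 e11
      exact sub_eq_zero.mp ((mul_eq_zero.mp
        (show (c.1 0 0 - c.1 1 1) * (c.1 0 0 + c.1 1 1) = 0 by linear_combination e00 - e11)).resolve_right ht')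
    rw [z01, zero_mul, add_zero] at e00
    rcases mul_self_eq_one_iff.mp e00 with h | h
    · refine hc1 (Units.ext ?_)
      ext i j
      fin_cases i <;> fin_cases j <;> simp [z01, z10, ← zd, h]
    · refine hcm ?_
      ext i j
      fin_cases i <;> fin_cases j <;> simp [z01, z10, ← zd, h]
  obtain ⟨a11, haq⟩ := tr0 a ha h1 hm1
  set b := g * a * g⁻¹ with hb
  have hbb : b * b = 1 := by rw [hb, show g * a * g⁻¹ * (g * a * g⁻¹) = g * (a * a) * g⁻¹ by group, ha]; group
  have hb1 : b ≠ 1 := fun e => h1 (by simpa [hb, mul_inv_eq_one] using e)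
  have hbm : b.1 ≠ -1 := fun e => hm1 (by
    have : a.1 = (g⁻¹).1 * b.1 * g.1 := by rw [← Units.val_mul, ← Units.val_mul, hb]; congr 1; group
    rw [this, e, mul_neg, mul_one, neg_mul, ← Units.val_mul, inv_mul_cancel, Units.val_one])
  obtain ⟨b11, hbq⟩ := tr0 b hbb hb1 hbm
  have hab : a.1 * b.1 = b.1 * a.1 := by rw [← Units.val_mul, ← Units.val_mul, hc]
  have c00 := congrFun (congrFun hab 0) 0
  have c01 := congrFun (congrFun hab 0) 1
  have c10 := congrFun (congrFun hab 1) 0
  simp [Matrix.mul_apply, Fin.sum_univ_two, a11, b11] at c00 c01 c10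
  set x := a.1 0 0
  set y := a.1 0 1
  set z := a.1 1 0
  set u := b.1 0 0
  set v := b.1 0 1
  set w := b.1 1 0
  have p1 : x * v = y * u := mul_left_cancel₀ h2 (by linear_combination c01)
  have p2 : z * u = x * w := mul_left_cancel₀ h2 (by linear_combination c10)
  have p3 : y * w = v * z := by linear_combination c00
  obtain ⟨lam, l1, l2, l3⟩ : ∃ l : F, u = l * x ∧ v = l * y ∧ w = l * z := by
    rcases ne_or_eq x 0 with hx | hx
    · exact ⟨u / x, by field_simp, by field_simp; linear_combination p1, by field_simp; linear_combination -p2⟩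
    rcases ne_or_eq y 0 with hy | hy
    · exact ⟨v / y, by field_simp; linear_combination -p1, by field_simp, by field_simp; linear_combination p3⟩
    · rw [hx, hy] at haq
      simp at haq
  have hlam : lam * lam = 1 := by
    have := hbq
    rw [l1, l2, l3] at this
    linear_combination this - lam * lam * haq
  have hba : b = a ∨ b.1 = -a.1 := by
    rcases mul_self_eq_one_iff.mp hlam with h | h
    · left
      refine Units.ext (Matrix.ext fun i j => ?_)
      rw [h, one_mul] at l1 l2 l3
      fin_cases i <;> fin_cases j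
      · exact l1
      · exact l2
      · exact l3
      · show b.1 1 1 = a.1 1 1
        rw [a11, b11, l1]
    · right
      ext i j
      rw [h, neg_one_mul] at l1 l2 l3
      fin_cases i <;> fin_cases j
      · exact l1
      · exact l2
      · exact l3
      · show b.1 1 1 = -a.1 1 1
        rw [a11, b11, l1]
  have hk : (g ^ 2).1 * a.1 = a.1 * (g ^ 2).1 := by
    have e1 : g.1 * a.1 = b.1 * g.1 := by
      rw [← Units.val_mul, ← Units.val_mul, hb]; congr 1; group
    rw [pow_two, Units.val_mul]
    rcases hba with h | h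
    · rw [h] at e1
      rw [mul_assoc, e1, ← mul_assoc, e1, mul_assoc]
    · rw [h, neg_mul] at e1
      rw [mul_assoc, e1, mul_neg, ← mul_assoc, e1, neg_mul, neg_neg, mul_assoc]
  obtain ⟨α, β, hαβ⟩ : ∃ α β : F, (g ^ 2).1 = α • (1 : Matrix (Fin 2) (Fin 2) F) + β • a.1 := by
    have k00 := congrFun (congrFun hk 0) 0
    have k01 := congrFun (congrFun hk 0) 1
    have k10 := congrFun (congrFun hk 1) 0
    simp [Matrix.mul_apply, Fin.sum_univ_two, a11, -Units.val_pow_eq_pow_val] at k00 k01 k10
    set k := (g ^ 2).1 with hkdef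
    obtain ⟨β, hβ1, hβ2, hβ3⟩ : ∃ β : F, k 0 0 - k 1 1 = 2 * (β * x) ∧ k 0 1 = β * y ∧ k 1 0 = β * z := by
      rcases ne_or_eq x 0 with hx | hx
      · refine ⟨(k 0 0 - k 1 1) / (2 * x), by field_simp, ?_, ?_⟩
        · field_simp; linear_combination -k01
        · field_simp; linear_combination k10
      rcases ne_or_eq y 0 with hy | hy
      · refine ⟨k 0 1 / y, ?_, by field_simp, ?_⟩
        · field_simp; linear_combination k01
        · field_simp; linear_combination -k00
      · rw [hx, hy] at haq
        simp at haq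
    refine ⟨k 0 0 - β * x, β, ?_⟩
    ext i j
    fin_cases i <;> fin_cases j <;> simp [a11]
    · ring
    · exact hβ2
    · exact hβ3
    · linear_combination -hβ1
  have hsq : ∀ α β : F, (α • (1 : Matrix (Fin 2) (Fin 2) F) + β • a.1) * (α • 1 + β • a.1) =
      (α * α + β * β) • 1 + (2 * α * β) • a.1 := fun α β => by
    have e : a.1 * a.1 = 1 := by rw [← Units.val_mul, ha, Units.val_one]
    simp only [add_mul, mul_add, smul_mul_smul, one_mul, mul_one, e]
    module
  have h4v : (g ^ 4).1 = (α * α + β * β) • (1 : Matrix (Fin 2) (Fin 2) F) + (2 * α * β) • a.1 := by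
    rw [show g ^ 4 = g ^ 2 * g ^ 2 by rw [← pow_add], Units.val_mul, hαβ, hsq]
  have h8v : (g ^ 8).1 = ((α * α + β * β) * (α * α + β * β) + (2 * α * β) * (2 * α * β)) • (1 : Matrix (Fin 2) (Fin 2) F)
      + (2 * (α * α + β * β) * (2 * α * β)) • a.1 := by
    rw [show g ^ 8 = g ^ 4 * g ^ 4 by rw [← pow_add], Units.val_mul, h4v, hsq]
  rw [hg8, Units.val_one] at h8v
  set A := α * α + β * β with hA
  set B := 2 * α * β with hB
  have q00 := congrFun (congrFun h8v 0) 0
  have q11 := congrFun (congrFun h8v 1) 1
  have q01 := congrFun (congrFun h8v 0) 1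
  have q10 := congrFun (congrFun h8v 1) 0
  simp [a11, -mul_eq_zero, -zero_eq_mul] at q00 q11 q01 q10
  have hABsum : A * A + B * B = 1 := mul_left_cancel₀ h2 (by linear_combination -q00 - q11)
  have hAB : A * B = 0 := by
    refine mul_left_cancel₀ h2 ?_
    rcases ne_or_eq x 0 with hx | hx
    · exact mul_right_cancel₀ hx (by linear_combination -q00 - hABsum)
    rcases ne_or_eq y 0 with hy | hy
    · exact mul_right_cancel₀ hy (by linear_combination -q01)
    · rw [hx, hy] at haq
      simp at haq
  rcases mul_eq_zero.mp hAB with hA0 | hB0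
  · rcases ne_or_eq β 0 with hβ | hβ
    · exact hns (α / β) (by field_simp; linear_combination hA0)
    · rw [hB, hA0, hβ] at hABsum
      simp at hABsum
  · rcases mul_self_eq_one_iff.mp (show A * A = 1 by rw [hB0] at hABsum; linear_combination hABsum) with hA1 | hA1
    · exact hg4 (Units.ext (by rw [h4v, hA1, hB0, one_smul, zero_smul, add_zero, Units.val_one]))
    · rcases mul_eq_zero.mp (show α * β = 0 from mul_left_cancel₀ h2 (by linear_combination hB0)) with h | h
      · exact hns β (by rw [hA, h] at hA1; linear_combination hA1)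
      · exact hns α (by rw [hA, h] at hA1; linear_combination hA1)

end CfsgLib.LinearNormalRank
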