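/-
Normal elementary abelian 2-subgroups of Sylow 2-subgroups of linear groups in odd characteristic.
-/
import Cfsg.Agent.Lib.LinearNormalRank.Bound
import Cfsg.Agent.Lib.LinearSylowTwo.Final
import Cfsg.Agent.Lib.FiniteForms.Standard
import Cfsg.Prelude.Def_Transfer

set_option autoImplicit false
set_option linter.unusedSectionVars false
set_option linter.style.haveILetI false

namespace CfsgLib.LinearNormalRank

open Matrix CfsgLib.LinearSylowTwo CfsgLib.OmegaSylowTwo CfsgLib.SymSylowGen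

variable {F : Type*} [Field F] [Fintype F] [DecidableEq F]

theorem elem_map {G H : Type*} [Group G] [Group H] (θ : G ≃* H) {E : Subgroup G}
    (hE : Cfsg.IsElementaryAbelian 2 E) : Cfsg.IsElementaryAbelian 2 (E.map θ.toMonoidHom) := by
  refine ⟨⟨⟨?_⟩⟩, ?_⟩
  · rintro ⟨_, a, ha, rfl⟩ ⟨_, b, hb, rfl⟩
    refine Subtype.ext ?_
    show θ a * θ b = θ b * θ a
    rw [← map_mul, ← map_mul, show a * b = b * a from
      congrArg (fun x : E => x.1) (hE.1.is_comm.comm ⟨a, ha⟩ ⟨b, hb⟩)]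
  · rintro _ ⟨a, ha, rfl⟩
    rw [← map_pow, hE.2 a ha, map_one]

/-- Both halves of the rank statement pass along isomorphisms. -/
theorem transport {G H : Type*} [Group G] [Group H] (θ : G ≃* H) {N : ℕ}
    (h : (∃ E : Subgroup H, E.Normal ∧ Cfsg.IsElementaryAbelian 2 E ∧ N ≤ Nat.card E) ∧
      ∀ E : Subgroup H, E.Normal → Cfsg.IsElementaryAbelian 2 E → Nat.card E ≤ N) :
    (∃ E : Subgroup G, E.Normal ∧ Cfsg.IsElementaryAbelian 2 E ∧ N ≤ Nat.card E) ∧
      ∀ E : Subgroup G, E.Normal → Cfsg.IsElementaryAbelian 2 E → Nat.card E ≤ N := by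
  obtain ⟨⟨E, hn, hE, hc⟩, hle⟩ := h
  refine ⟨⟨E.map θ.symm.toMonoidHom, hn.map _ θ.symm.surjective, elem_map θ.symm hE, ?_⟩, fun K hK hKE => ?_⟩
  · rwa [Subgroup.card_map_of_injective (f := θ.symm.toMonoidHom) θ.symm.injective]
  · rw [← Subgroup.card_map_of_injective (f := θ.toMonoidHom) θ.injective]
    exact hle _ (hK.map _ θ.surjective) (elem_map θ hKE)

variable {k r : ℕ} (M : Subgroup (GL (Fin 2) F)) (S : Subgroup Fˣ) (T : Subgroup (Equiv.Perm (Fin k)))
  (D : Subgroup (Dat F k r))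

/-- A stable group of block data gives a normal elementary abelian subgroup. -/
theorem exists_normal (hD : D ≤ datSub M S) (hDx : ∀ x ∈ datSub M S, ∀ d ∈ D, x * d * x⁻¹ ∈ D)
    (hDw : ∀ w : Equiv.Perm (Fin k), ∀ d ∈ D, ((d.1 ∘ ⇑w, d.2) : Dat F k r) ∈ D)
    (hDc : ∀ a ∈ D, ∀ b ∈ D, a * b = b * a) (hD2 : ∀ a ∈ D, a ^ 2 = 1) :
    ∃ E : Subgroup ↥(mono (r := r) M S T), E.Normal ∧ Cfsg.IsElementaryAbelian 2 E ∧ Nat.card D ≤ Nat.card E := by
  refine ⟨(D.map Bl).subgroupOf _, ⟨fun e he g => ?_⟩, ⟨⟨⟨fun a b => ?_⟩⟩, fun a ha => ?_⟩, ?_⟩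
  · rw [Subgroup.mem_subgroupOf] at he ⊢
    obtain ⟨d, hd, e'⟩ := he
    obtain ⟨x, hx, w, -, hg⟩ := mem_mono M S T g.2
    refine ⟨x * (d.1 ∘ ⇑w⁻¹, d.2) * x⁻¹, hDx x hx _ (hDw _ d hd), ?_⟩
    show Bl _ = g.1 * e.1 * g.1⁻¹
    rw [← e', hg, map_mul, map_mul, map_inv, ← Bl_conj w d]
    group
  · obtain ⟨a', ha', hae⟩ := Subgroup.mem_subgroupOf.mp a.2
    obtain ⟨b', hb', hbe⟩ := Subgroup.mem_subgroupOf.mp b.2
    refine Subtype.ext (Subtype.ext ?_)
    show a.1.1 * b.1.1 = b.1.1 * a.1.1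
    rw [← hae, ← hbe, ← map_mul, ← map_mul, hDc a' ha' b' hb']
  · obtain ⟨a', ha', hae⟩ := Subgroup.mem_subgroupOf.mp ha
    refine Subtype.ext ?_
    show a.1 ^ 2 = 1
    rw [← hae, ← map_pow, hD2 a' ha', map_one]
  · have hle : D.map Bl ≤ mono (r := r) M S T := fun x hx => Subgroup.mem_sup_left (Subgroup.map_mono hD hx)
    rw [Nat.card_congr (Subgroup.subgroupOfEquivOfLe hle).toEquiv, Subgroup.card_map_of_injective Bl_injective]

/-- A normal elementary abelian subgroup has only scalar blocks. -/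
theorem normal_le (h2 : (2 : F) ≠ 0) (hns : ∀ x : F, x * x ≠ -1) {g : GL (Fin 2) F} (hgM : g ∈ M)
    (hg : orderOf g = 8) (E : Subgroup ↥(mono (r := r) M S T)) (hn : E.Normal)
    (hE : Cfsg.IsElementaryAbelian 2 E) :
    ∀ e : ↥(mono (r := r) M S T), e ∈ E → ∃ x : Dat F k r, (e : GL (Ix k r) F) = Bl x ∧ (∀ i, x.1 i = 1 ∨ (x.1 i).1 = -1) ∧
      ∀ j, x.2 j = 1 ∨ x.2 j = -1 := by
  intro e he
  obtain ⟨x, -, w, -, hex⟩ := mem_mono M S T e.2
  have hmem : ∀ i, Bl ((Pi.mulSingle i g, 1) : Dat F k r) ∈ mono (r := r) M S T := fun i =>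
    Subgroup.mem_sup_left ⟨_, mem_datSub.2 ⟨fun l => by
      rcases eq_or_ne l i with rfl | h
      · simpa using hgM
      · simp [Pi.mulSingle_eq_of_ne h], fun j => one_mem _⟩, rfl⟩
  have hw : w = 1 := by
    by_contra hne
    obtain ⟨i, hi⟩ : ∃ i, w i ≠ i := by
      by_contra h
      push Not at h
      exact hne (Equiv.ext h)
    set Y : ↥(mono (r := r) M S T) := ⟨_, hmem i⟩
    have hce : e * (Y * e⁻¹ * Y⁻¹) ∈ E := mul_mem he (hn.conj_mem _ (inv_mem he) Y)
    have hsq := congrArg Subtype.val (hE.2 _ hce)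
    set y : Dat F k r := (Pi.mulSingle i g, 1)
    have hc : ((e * (Y * e⁻¹ * Y⁻¹) : ↥(mono (r := r) M S T)) : GL (Ix k r) F) =
        Bl (x * (y.1 ∘ ⇑w⁻¹, y.2) * x⁻¹ * y⁻¹) := by
      show e.1 * (Bl y * e.1⁻¹ * (Bl y)⁻¹) = _
      rw [hex, map_mul, map_mul, map_mul, map_inv, map_inv, ← Bl_conj]
      group
    rw [Subgroup.coe_pow, hc, ← map_pow, Subgroup.coe_one, ← map_one (Bl (F := F) (k := k) (r := r))] at hsq
    have := congrArg (fun d : Dat F k r => d.1 i) (Bl_injective hsq)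
    have hwi : w⁻¹ i ≠ i := fun h => hi (by conv_lhs => rw [← h]; simp)
    simp only [y, pow_two, Prod.fst_mul, Prod.fst_inv, Pi.mul_apply, Pi.inv_apply, Function.comp_apply,
      Pi.mulSingle_eq_of_ne hwi, Pi.mulSingle_eq_same, mul_one, mul_inv_cancel, one_mul, Prod.fst_one,
      Pi.one_apply, ← _root_.mul_inv_rev, inv_eq_one] at this
    have h4 := orderOf_dvd_of_pow_eq_one (x := g) (n := 2) (by rw [pow_two, this])
    rw [hg] at h4
    norm_num at h4
  subst hw
  rw [map_one, mul_one] at hex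
  have hee : x * x = 1 := Bl_injective (by
    rw [map_mul, ← hex, map_one]
    have := congrArg Subtype.val (hE.2 e he)
    rwa [Subgroup.coe_pow, pow_two] at this)
  refine ⟨x, hex, fun i => ?_, fun j => ?_⟩
  · set Y : ↥(mono (r := r) M S T) := ⟨_, hmem i⟩
    have hce : Y * e * Y⁻¹ ∈ E := hn.conj_mem _ he Y
    have hcomm := congrArg (fun z : E => (z.1.1 : GL (Ix k r) F)) (hE.1.is_comm.comm ⟨e, he⟩ ⟨_, hce⟩)
    set y : Dat F k r := (Pi.mulSingle i g, 1)
    change e.1 * (Bl y * e.1 * (Bl y)⁻¹) = Bl y * e.1 * (Bl y)⁻¹ * e.1 at hcomm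
    rw [hex, ← map_inv, ← map_mul, ← map_mul, ← map_mul, ← map_mul] at hcomm
    have h' := congrArg (fun d : Dat F k r => d.1 i) (Bl_injective hcomm)
    simp only [y, Prod.fst_mul, Prod.fst_inv, Pi.mul_apply, Pi.inv_apply, Pi.mulSingle_eq_same] at h'
    exact scalar_of_commute_conj h2 hns g (x.1 i) hg (congrArg (fun d : Dat F k r => d.1 i) hee) h'
  · have := congrArg (fun d : Dat F k r => ((d.2 j : Fˣ) : F)) hee
    simp only [Prod.snd_mul, Pi.mul_apply, Units.val_mul, Prod.snd_one, Pi.one_apply, Units.val_one] at this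
    exact (mul_self_eq_one_iff.mp this).imp (fun h => Units.ext h) fun h => Units.ext (by simpa using h)

omit D in
theorem isPGroup_S {S : Subgroup Fˣ} {m : ℕ} (h : Nat.card S = 2 ^ m) : IsPGroup 2 S := IsPGroup.of_card h

/-- The Sylow subgroup as a monomial group. -/
theorem exists_mono_equiv (h2 : (2 : F) ≠ 0) {n : ℕ} (hn : n = 2 * k + r) (hr : r ≤ 1)
    (P : Sylow 2 (GL (Fin n) F)) {M : Subgroup (GL (Fin 2) F)} (hMp : IsPGroup 2 M)
    (hM : 2 ^ (Nat.card (GL (Fin 2) F)).factorization 2 ≤ Nat.card M) {S : Subgroup Fˣ}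
    (hS : Nat.card S = 2 ^ (Fintype.card F - 1).factorization 2) :
    ∃ T : Subgroup (Equiv.Perm (Fin k)), Nonempty (↥(P : Subgroup (GL (Fin n) F)) ≃* ↥(mono (r := r) M S T)) := by
  haveI : Fact (Nat.Prime 2) := ⟨Nat.prime_two⟩
  obtain ⟨T, hTp, hTc, -, -⟩ := exists_generated 2 k
  rw [← Nat.factorization_def _ Nat.prime_two] at hTc
  refine ⟨T, ?_⟩
  have hp : IsPGroup 2 (mono (r := r) M S T) := isPGroup_mono M S T hMp (IsPGroup.of_card hS) hTp
  have hcard := two_part_subgroup hp (by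
    refine le_trans (le_trans (le_of_eq ?_) (Nat.mul_le_mul (Nat.mul_le_mul (Nat.pow_le_pow_left hM k) le_rfl) le_rfl))
      (card_mono M S T)
    rw [v2_GL_Ix h2 hr, (v2_GL2 h2).1, hS, hTc, ← pow_mul, ← pow_mul, ← pow_add, ← pow_add]
    ring_nf)
  let S₀ : Sylow 2 (GL (Ix k r) F) := Sylow.ofCard _ hcard
  let e : Fin n ≃ Ix k r := Fintype.equivOfCardEq (by simp [hn])
  let P' : Sylow 2 (GL (Ix k r) F) := P.mapSurjective (f := (glReindex (F := F) e).toMonoidHom)
    (glReindex (F := F) e).surjective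
  exact ⟨((Subgroup.equivMapOfInjective _ (glReindex (F := F) e).toMonoidHom
    (glReindex (F := F) e).injective).trans (MulEquiv.subgroupCongr (Sylow.coe_mapSurjective _ P).symm)).trans
    ((Sylow.equiv P' S₀).trans (MulEquiv.subgroupCongr (Sylow.coe_ofCard _ hcard)))⟩

/-- A Sylow subgroup of the units. -/
theorem exists_units_sylow :
    ∃ S : Subgroup Fˣ, Nat.card S = 2 ^ (Fintype.card F - 1).factorization 2 ∧ (-1 : Fˣ) ∈ S := by
  haveI : Fact (Nat.Prime 2) := ⟨Nat.prime_two⟩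
  have hp : IsPGroup 2 (Subgroup.zpowers (-1 : Fˣ)) := by
    rintro ⟨z, hz⟩
    refine ⟨1, Subtype.ext ?_⟩
    obtain ⟨m, rfl⟩ := Subgroup.mem_zpowers_iff.mp hz
    show ((-1 : Fˣ) ^ m) ^ 2 ^ 1 = 1
    rw [pow_one, ← _root_.zpow_natCast, ← _root_.zpow_mul, mul_comm, _root_.zpow_mul]
    simp
  obtain ⟨Q, hQ⟩ := hp.exists_le_sylow
  exact ⟨Q, by rw [Q.card_eq_multiplicity, Nat.card_units, Nat.card_eq_fintype_card],
    hQ (Subgroup.mem_zpowers _)⟩

/-- An element of order eight. -/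
theorem exists_order_eight (hq : Fintype.card F % 4 = 3) : ∃ g : GL (Fin 2) F, orderOf g = 8 := by
  obtain ⟨p, hp⟩ := CharP.exists F
  haveI : Fact p.Prime := ⟨(CharP.char_is_prime_or_zero F p).resolve_right (by
    rintro rfl
    haveI := CharP.charP_to_charZero F
    exact not_finite F)⟩
  let K := FiniteField.Extension F p 2
  have hK : Nat.card K = Nat.card F ^ 2 := FiniteField.natCard_extension F p 2
  haveI : Fintype K := Fintype.ofFinite K
  let b : Module.Basis (Fin 2) F K :=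
    Module.finBasisOfFinrankEq F K (FiniteField.finrank_extension F p 2)
  let φ : Kˣ →* GL (Fin 2) F := Units.map (Algebra.leftMulMatrix b).toRingHom.toMonoidHom
  have hφ : Function.Injective φ := Units.map_injective (Algebra.leftMulMatrix_injective b)
  have h8 : 8 ∣ Nat.card Kˣ := by
    rw [Nat.card_units, hK, Nat.card_eq_fintype_card]
    obtain ⟨c, hc⟩ : ∃ c, Fintype.card F = 4 * c + 3 := ⟨Fintype.card F / 4, by omega⟩
    rw [hc, show (4 * c + 3) ^ 2 = 8 * (2 * c * c + 3 * c + 1) + 1 by ring, Nat.add_sub_cancel]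
    exact dvd_mul_right _ _
  obtain ⟨u, hu⟩ := IsCyclic.exists_ofOrder_eq_natCard (α := Kˣ)
  refine ⟨φ (u ^ (Nat.card Kˣ / 8)), ?_⟩
  rw [orderOf_injective φ hφ, orderOf_pow_of_dvd
    (Nat.div_pos (Nat.le_of_dvd Nat.card_pos h8) (by norm_num)).ne' (by rw [hu]; exact Nat.div_dvd_of_dvd h8),
    hu, Nat.div_div_self h8 Nat.card_pos.ne']

/-- The rank statement for `q % 4 = 3`. -/
theorem rank_three (hq : Fintype.card F % 4 = 3) (n : ℕ) (P : Sylow 2 (GL (Fin n) F)) :
    (∃ E : Subgroup ↥(P : Subgroup (GL (Fin n) F)), E.Normal ∧ Cfsg.IsElementaryAbelian 2 E ∧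
        2 ^ ((n + 1) / 2) ≤ Nat.card E) ∧
      ∀ E : Subgroup ↥(P : Subgroup (GL (Fin n) F)), E.Normal → Cfsg.IsElementaryAbelian 2 E →
        Nat.card E ≤ 2 ^ ((n + 1) / 2) := by
  classical
  haveI : Fact (Nat.Prime 2) := ⟨Nat.prime_two⟩
  have h2 : (2 : F) ≠ 0 := CfsgLib.FiniteForms.two_ne_zero_of_odd rfl (Nat.odd_iff.mpr (by omega))
  have hns : ∀ x : F, x * x ≠ -1 := fun x h =>
    absurd (FiniteField.isSquare_neg_one_iff.mp ⟨x, h.symm⟩) (by omega)
  obtain ⟨g, hg⟩ := exists_order_eight hq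
  have hgp : IsPGroup 2 (Subgroup.zpowers g) := IsPGroup.of_card (n := 3) (by rw [Nat.card_zpowers, hg]; norm_num)
  obtain ⟨Q, hQ⟩ := hgp.exists_le_sylow
  obtain ⟨S, hS, hS1⟩ := exists_units_sylow (F := F)
  obtain ⟨k, r, hn, hr, hkr⟩ : ∃ k r, n = 2 * k + r ∧ r ≤ 1 ∧ (n + 1) / 2 = k + r :=
    ⟨n / 2, n % 2, by omega, by omega, by omega⟩
  obtain ⟨T, ⟨θ⟩⟩ := exists_mono_equiv h2 hn hr P Q.isPGroup' (by rw [Q.card_eq_multiplicity]) hS
  refine transport θ ?_
  let sg : ℤˣ →* GL (Fin 2) F :=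
    (Matrix.GeneralLinearGroup.scalar (Fin 2)).comp (Units.map (Int.castRingHom F).toMonoidHom)
  let sc : ℤˣ →* Fˣ := Units.map (Int.castRingHom F).toMonoidHom
  let Φ : (Fin k → ℤˣ) × (Fin r → ℤˣ) →* Dat F k r :=
    ((Pi.monoidHom fun i => sg.comp (Pi.evalMonoidHom _ i)).comp (MonoidHom.fst _ _)).prod
      ((Pi.monoidHom fun j => sc.comp (Pi.evalMonoidHom _ j)).comp (MonoidHom.snd _ _))
  have hsc : Function.Injective sc := fun s t h => by
    have h1 := congrArg Units.val h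
    rcases Int.units_eq_one_or s with hs | hs <;> rcases Int.units_eq_one_or t with ht | ht <;>
      simp [sc, hs, ht] at h1 ⊢
    · exact h2 (by linear_combination h1)
    · exact h2 (by linear_combination -h1)
  have hsg : Function.Injective sg := fun s t h => hsc (Units.ext (by
    have := congrArg (fun a : GL (Fin 2) F => a.1 0 0) h
    simp [sg, sc] at this ⊢
    exact this))
  have hΦ : Function.Injective Φ := fun a b h => Prod.ext
    (funext fun i => hsg (congrFun (congrArg Prod.fst h) i)) (funext fun j => hsc (congrFun (congrArg Prod.snd h) j))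
  have hΦc : Nat.card Φ.range = 2 ^ ((n + 1) / 2) := by
    rw [← Nat.card_congr (MonoidHom.ofInjective hΦ).toEquiv, Nat.card_prod, hkr, pow_add]
    simp
  have hsgc : ∀ (s : ℤˣ) (a : GL (Fin 2) F), a * sg s = sg s * a := fun s a =>
    Units.ext ((Matrix.scalar_commute _ (fun _ => Commute.all _ _) a.1).eq).symm
  have hscm : ∀ s, sc s ∈ S := fun s => by
    rcases Int.units_eq_one_or s with rfl | rfl
    · rw [map_one]; exact one_mem _
    · rw [show sc (-1) = -1 from Units.ext (by simp [sc])]; exact hS1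
  have hsgm : ∀ s, sg s ∈ (Q : Subgroup (GL (Fin 2) F)) := fun s => by
    have hnorm : (Subgroup.zpowers (sg s)).Normal := ⟨fun a ha b => by
      obtain ⟨m, rfl⟩ := Subgroup.mem_zpowers_iff.mp ha
      rw [← map_zpow, hsgc, mul_inv_cancel_right, map_zpow]
      exact Subgroup.zpow_mem_zpowers _ _⟩
    have hp : IsPGroup 2 (Subgroup.zpowers (sg s)) := by
      rintro ⟨z, hz⟩
      obtain ⟨m, rfl⟩ := Subgroup.mem_zpowers_iff.mp hz
      refine ⟨1, Subtype.ext ?_⟩
      show ((sg s) ^ m) ^ 2 ^ 1 = 1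
      rw [← map_zpow, ← map_pow, pow_one, Int.units_sq, map_one]
    exact hp.le_sylow_of_normal Q (Subgroup.mem_zpowers _)
  refine ⟨?_, fun E hEn hE => ?_⟩
  · obtain ⟨E, h1, h2', h3⟩ := exists_normal (Q : Subgroup (GL (Fin 2) F)) S T Φ.range
      (by rintro _ ⟨a, rfl⟩; exact mem_datSub.2 ⟨fun i => hsgm _, fun j => hscm _⟩)
      (by
        rintro x - _ ⟨a, rfl⟩
        refine ⟨a, ?_⟩
        refine Prod.ext (funext fun i => ?_) (funext fun j => ?_)
        · show sg (a.1 i) = x.1 i * sg (a.1 i) * (x.1 i)⁻¹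
          rw [hsgc, mul_inv_cancel_right]
        · show sc (a.2 j) = x.2 j * sc (a.2 j) * (x.2 j)⁻¹
          rw [mul_inv_cancel_comm])
      (by rintro w _ ⟨a, rfl⟩; exact ⟨(a.1 ∘ ⇑w, a.2), rfl⟩)
      (by rintro _ ⟨a, rfl⟩ _ ⟨b, rfl⟩; rw [← map_mul, ← map_mul, mul_comm])
      (by
        rintro _ ⟨a, rfl⟩
        rw [← map_pow, show a ^ 2 = 1 from Prod.ext (funext fun i => Int.units_sq _)
          (funext fun j => Int.units_sq _), map_one])
    exact ⟨E, h1, h2', hΦc ▸ h3⟩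
  · rw [← hΦc, ← Subgroup.card_map_of_injective Bl_injective,
      ← Subgroup.card_map_of_injective (K := E) (f := (mono (r := r) (Q : Subgroup (GL (Fin 2) F)) S T).subtype)
        (Subgroup.subtype_injective _)]
    refine Subgroup.card_le_of_le ?_
    rintro _ ⟨e, he, rfl⟩
    obtain ⟨x, hx, h1, h3⟩ := normal_le (Q : Subgroup (GL (Fin 2) F)) S T h2 hns
      (hQ (Subgroup.mem_zpowers g)) hg E hEn hE e he
    refine ⟨x, ⟨(fun i => if x.1 i = 1 then 1 else -1, fun j => if x.2 j = 1 then 1 else -1), ?_⟩, hx.symm⟩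
    refine Prod.ext (funext fun i => ?_) (funext fun j => ?_)
    · show sg (if x.1 i = 1 then 1 else -1) = x.1 i
      split_ifs with h
      · rw [map_one, h]
      · refine Units.ext ?_
        rw [(h1 i).resolve_left h]
        ext a b
        fin_cases a <;> fin_cases b <;> simp [sg]
    · show sc (if x.2 j = 1 then 1 else -1) = x.2 j
      split_ifs with h
      · rw [map_one, h]
      · rw [(h3 j).resolve_left h]
        exact Units.ext (by simp [sc])

/-- The monomial matrices of degree two with entries in `S`. -/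
def mon2 (S : Subgroup Fˣ) : Subgroup (GL (Fin 2) F) where
  carrier := {g | ∃ a ∈ S, ∃ b ∈ S, g.1 = !![(a : F), 0; 0, (b : F)] ∨ g.1 = !![0, (a : F); (b : F), 0]}
  one_mem' := ⟨1, one_mem _, 1, one_mem _, Or.inl (by simp [Matrix.one_fin_two])⟩
  mul_mem' := by
    rintro g g' ⟨a, ha, b, hb, h⟩ ⟨a', ha', b', hb', h'⟩
    rcases h with h | h <;> rcases h' with h' | h'
    · exact ⟨a * a', mul_mem ha ha', b * b', mul_mem hb hb', Or.inl (by simp [h, h'])⟩
    · exact ⟨a * a', mul_mem ha ha', b * b', mul_mem hb hb', Or.inr (by simp [h, h'])⟩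
    · exact ⟨a * b', mul_mem ha hb', b * a', mul_mem hb ha', Or.inr (by simp [h, h'])⟩
    · exact ⟨a * b', mul_mem ha hb', b * a', mul_mem hb ha', Or.inl (by simp [h, h'])⟩
  inv_mem' := by
    rintro g ⟨a, ha, b, hb, h | h⟩
    · refine ⟨a⁻¹, inv_mem ha, b⁻¹, inv_mem hb, Or.inl ?_⟩
      rw [Matrix.coe_units_inv]
      refine Matrix.inv_eq_right_inv ?_
      rw [h]
      simp [Matrix.one_fin_two]
    · refine ⟨b⁻¹, inv_mem hb, a⁻¹, inv_mem ha, Or.inr ?_⟩
      rw [Matrix.coe_units_inv]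
      refine Matrix.inv_eq_right_inv ?_
      rw [h]
      simp [Matrix.one_fin_two]

/-- The rank statement for `q % 4 = 1`. -/
theorem rank_one (hq : Fintype.card F % 4 = 1) (n : ℕ) (P : Sylow 2 (GL (Fin n) F)) :
    (∃ E : Subgroup ↥(P : Subgroup (GL (Fin n) F)), E.Normal ∧ Cfsg.IsElementaryAbelian 2 E ∧
        2 ^ n ≤ Nat.card E) ∧
      ∀ E : Subgroup ↥(P : Subgroup (GL (Fin n) F)), E.Normal → Cfsg.IsElementaryAbelian 2 E →
        Nat.card E ≤ 2 ^ n := by
  classical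
  haveI : Fact (Nat.Prime 2) := ⟨Nat.prime_two⟩
  have h2 : (2 : F) ≠ 0 := CfsgLib.FiniteForms.two_ne_zero_of_odd rfl (Nat.odd_iff.mpr (by omega))
  refine ⟨?_, fun E _ hE => ?_⟩
  swap
  · let ι : E →* ((Fin n → F) ≃ₗ[F] (Fin n → F)) :=
      ((LinearMap.GeneralLinearGroup.generalLinearEquiv F (Fin n → F)).toMonoidHom.comp
        Matrix.GeneralLinearGroup.toLin.toMonoidHom).comp ((P : Subgroup (GL (Fin n) F)).subtype.comp E.subtype)
    exact card_le_two_pow h2 n (by simp) ι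
      (((LinearMap.GeneralLinearGroup.generalLinearEquiv F (Fin n → F)).injective.comp
        Matrix.GeneralLinearGroup.toLin.injective).comp (Subtype.val_injective.comp Subtype.val_injective))
      (fun a b => hE.1.is_comm.comm a b) (fun a => Subtype.ext (by
        have := hE.2 a.1 a.2
        rwa [pow_two] at this))
  obtain ⟨S, hS, hS1⟩ := exists_units_sylow (F := F)
  have hp : IsPGroup 2 (mon2 S) := by
    rintro ⟨g, a, ha, b, hb, h⟩
    have hs : ∀ {c}, c ∈ S → ((c : F)) ^ 2 ^ (Fintype.card F - 1).factorization 2 = 1 := fun {c} hc => by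
      have := pow_card_eq_one' (G := S) (x := ⟨c, hc⟩)
      rw [hS] at this
      rw [← Units.val_pow_eq_pow_val, show c ^ _ = 1 from congrArg Subtype.val this, Units.val_one]
    obtain ⟨a', ha', b', hb', h'⟩ : ∃ a' ∈ S, ∃ b' ∈ S, (g ^ 2).1 = Matrix.diagonal ![(a' : F), (b' : F)] := by
      rcases h with h | h
      · exact ⟨a * a, mul_mem ha ha, b * b, mul_mem hb hb, by
          rw [pow_two, Units.val_mul, h]; ext i j; fin_cases i <;> fin_cases j <;> simp⟩
      · exact ⟨a * b, mul_mem ha hb, a * b, mul_mem ha hb, by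
          rw [pow_two, Units.val_mul, h]; ext i j; fin_cases i <;> fin_cases j <;> simp [mul_comm]⟩
    refine ⟨(Fintype.card F - 1).factorization 2 + 1, Subtype.ext (Units.ext ?_)⟩
    show ((g ^ 2 ^ ((Fintype.card F - 1).factorization 2 + 1)) : GL (Fin 2) F).1 = 1
    rw [pow_succ', pow_mul, Units.val_pow_eq_pow_val, h', Matrix.diagonal_pow]
    ext i j
    fin_cases i <;> fin_cases j <;> simp [hs ha', hs hb']
  have hc : 2 ^ (Nat.card (GL (Fin 2) F)).factorization 2 ≤ Nat.card (mon2 S) := by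
    have hsq : IsSquare (-1 : F) := FiniteField.isSquare_neg_one_iff.mpr (by omega)
    rw [(v2_GL2 h2).1, (card_circ h2).1 hsq]
    refine le_trans (le_of_eq ?_) (Nat.card_le_card_of_injective (α := Bool × S × S)
      (fun t => if t.1 then
        ⟨Matrix.GeneralLinearGroup.mkOfDetNeZero !![(t.2.1.1 : F), 0; 0, (t.2.2.1 : F)] (by simp [Matrix.det_fin_two]),
          t.2.1.1, t.2.1.2, t.2.2.1, t.2.2.2, Or.inl rfl⟩ else
        ⟨Matrix.GeneralLinearGroup.mkOfDetNeZero !![0, (t.2.1.1 : F); (t.2.2.1 : F), 0] (by simp [Matrix.det_fin_two]),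
          t.2.1.1, t.2.1.2, t.2.2.1, t.2.2.2, Or.inr rfl⟩) ?_)
    · rw [Nat.card_prod, Nat.card_prod, hS, Nat.card_eq_fintype_card, Fintype.card_bool, ← pow_add, ← pow_succ']
      congr 1
    · rintro ⟨x, ⟨a, ha⟩, ⟨b, hb⟩⟩ ⟨y, ⟨c, hc⟩, ⟨d, hd⟩⟩ e
      have e' := congrArg (fun z : mon2 S => z.1.1) e
      cases x <;> cases y <;> simp only [if_true, if_false, Bool.false_eq_true] at e'
      all_goals
        have e1 := congrFun (congrFun e' 0) 0
        have e2 := congrFun (congrFun e' 0) 1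
        have e3 := congrFun (congrFun e' 1) 0
        have e4 := congrFun (congrFun e' 1) 1
        simp at e1 e2 e3 e4
      all_goals first
        | exact absurd e1 (Units.ne_zero _)
        | exact absurd e1.symm (Units.ne_zero _)
        | exact absurd e2 (Units.ne_zero _)
        | exact absurd e2.symm (Units.ne_zero _)
        | (obtain rfl := Units.ext e1; obtain rfl := Units.ext e4; rfl)
        | (obtain rfl := Units.ext e2; obtain rfl := Units.ext e3; rfl)
  obtain ⟨k, r, hn, hr⟩ : ∃ k r, n = 2 * k + r ∧ r ≤ 1 := ⟨n / 2, n % 2, by omega, by omega⟩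
  obtain ⟨T, ⟨θ⟩⟩ := exists_mono_equiv h2 hn hr P hp hc hS
  let sc : ℤˣ →* Fˣ := Units.map (Int.castRingHom F).toMonoidHom
  let dg : (Fˣ × Fˣ) →* GL (Fin 2) F :=
    MonoidHom.toHomUnits
      { toFun := fun t => !![(t.1 : F), 0; 0, (t.2 : F)]
        map_one' := by simp [Matrix.one_fin_two]
        map_mul' := fun s t => by simp }
  let Φ : (Fin k → ℤˣ × ℤˣ) × (Fin r → ℤˣ) →* Dat F k r :=
    ((Pi.monoidHom fun i => (dg.comp (MonoidHom.prodMap sc sc)).comp (Pi.evalMonoidHom _ i)).comp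
      (MonoidHom.fst _ _)).prod ((Pi.monoidHom fun j => sc.comp (Pi.evalMonoidHom _ j)).comp (MonoidHom.snd _ _))
  have hscm : ∀ s, sc s ∈ S := fun s => by
    rcases Int.units_eq_one_or s with rfl | rfl
    · rw [map_one]; exact one_mem _
    · rw [show sc (-1) = -1 from Units.ext (by simp [sc])]; exact hS1
  have hsc : Function.Injective sc := fun s t h => by
    have h1 := congrArg Units.val h
    rcases Int.units_eq_one_or s with hs | hs <;> rcases Int.units_eq_one_or t with ht | ht <;>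
      simp [sc, hs, ht] at h1 ⊢
    · exact h2 (by linear_combination h1)
    · exact h2 (by linear_combination -h1)
  have hdg : Function.Injective dg := fun s t h => Prod.ext
    (Units.ext (congrArg (fun a : GL (Fin 2) F => a.1 0 0) h))
    (Units.ext (congrArg (fun a : GL (Fin 2) F => a.1 1 1) h))
  have hΦ : Function.Injective Φ := fun a b h => Prod.ext
    (funext fun i => by
      have := hdg (congrFun (congrArg Prod.fst h) i)
      exact Prod.ext (hsc (congrArg Prod.fst this)) (hsc (congrArg Prod.snd this)))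
    (funext fun j => hsc (congrFun (congrArg Prod.snd h) j))
  obtain ⟨E, h1, h2', h3⟩ := exists_normal (mon2 S) S T Φ.range
    (by
      rintro _ ⟨a, rfl⟩
      exact mem_datSub.2 ⟨fun i => ⟨_, hscm (a.1 i).1, _, hscm (a.1 i).2, Or.inl rfl⟩, fun j => hscm _⟩)
    (by
      rintro x hx _ ⟨a, rfl⟩
      have hx1 := (mem_datSub.1 hx).1
      have key : ∀ i, ∃ c : ℤˣ × ℤˣ, dg (sc c.1, sc c.2) = x.1 i * dg (sc (a.1 i).1, sc (a.1 i).2) * (x.1 i)⁻¹ := by
        intro i
        obtain ⟨u, -, v, -, h | h⟩ := hx1 i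
        · refine ⟨a.1 i, ?_⟩
          rw [eq_mul_inv_iff_mul_eq]
          refine Units.ext ?_
          rw [Units.val_mul, Units.val_mul, h]
          simp [dg, mul_comm]
        · refine ⟨((a.1 i).2, (a.1 i).1), ?_⟩
          rw [eq_mul_inv_iff_mul_eq]
          refine Units.ext ?_
          rw [Units.val_mul, Units.val_mul, h]
          simp [dg, mul_comm]
      choose c hc using key
      refine ⟨(c, a.2), Prod.ext (funext hc) (funext fun j => ?_)⟩
      show sc (a.2 j) = x.2 j * sc (a.2 j) * (x.2 j)⁻¹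
      rw [mul_inv_cancel_comm])
    (by rintro w _ ⟨a, rfl⟩; exact ⟨(a.1 ∘ ⇑w, a.2), rfl⟩)
    (by rintro _ ⟨a, rfl⟩ _ ⟨b, rfl⟩; rw [← map_mul, ← map_mul, mul_comm])
    (by
      rintro _ ⟨a, rfl⟩
      rw [← map_pow, show a ^ 2 = 1 from Prod.ext (funext fun i => Prod.ext (Int.units_sq _) (Int.units_sq _))
        (funext fun j => Int.units_sq _), map_one])
  refine ⟨E.map θ.symm.toMonoidHom, h1.map _ θ.symm.surjective, elem_map θ.symm h2', ?_⟩
  rw [Subgroup.card_map_of_injective (f := θ.symm.toMonoidHom) θ.symm.injective]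
  refine le_trans (le_of_eq ?_) h3
  rw [← Nat.card_congr (MonoidHom.ofInjective hΦ).toEquiv, Nat.card_prod, hn, pow_add, pow_mul]
  simp

end CfsgLib.LinearNormalRank
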